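import Mathlib
import Cfsg.Prelude.Def_FusionComponents
import Cfsg.Agent.Lib.Helper87.FusionCore

set_option autoImplicit false

/-!
# Transport of fusion systems along an isomorphism of pairs (helper84)

`e : S ≃* S'` with `S ≤ Ω`, `S' ≤ Ω'`.  For `P ≤ S` we write `im e P ≤ S'` for the image, and for a fusion
system `E` over `T ≤ S` the relation `Corr e E E'` says that `E'` (over `T' = im e T`) consists exactly of the
maps induced along `e` by the maps of `E`.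
-/

namespace Cfsg.Agent.Lib.Helper84.FTr

open Cfsg Cfsg.FusionSystem

variable {Ω : Type*} [Group Ω] {Ω' : Type*} [Group Ω'] {S : Subgroup Ω} {S' : Subgroup Ω'}

/-- The homomorphism `S →* Ω'` underlying an isomorphism of pairs. -/
def pairHom (e : S ≃* S') : S →* Ω' := S'.subtype.comp e.toMonoidHom

@[simp] theorem pairHom_apply (e : S ≃* S') (s : S) : pairHom e s = (e s : Ω') := rfl

theorem pairHom_injective (e : S ≃* S') : Function.Injective (pairHom e) := by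
  intro a b h
  exact e.injective (Subtype.ext h)

/-- The image of `P` (in use `P ≤ S`) under `e`. -/
abbrev im (e : S ≃* S') (P : Subgroup Ω) : Subgroup Ω' := imageAlong (pairHom e) P

theorem mem_im_iff (e : S ≃* S') (P : Subgroup Ω) (y : Ω') :
    y ∈ im e P ↔ ∃ (x : Ω) (hx : x ∈ S), x ∈ P ∧ (e ⟨x, hx⟩ : Ω') = y := by
  constructor
  · rintro ⟨⟨x, hx⟩, hxP, rfl⟩
    exact ⟨x, hx, hxP, rfl⟩
  · rintro ⟨x, hx, hxP, rfl⟩
    exact ⟨⟨x, hx⟩, hxP, rfl⟩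

theorem apply_mem_im (e : S ≃* S') {P : Subgroup Ω} {x : Ω} (hxS : x ∈ S) (hxP : x ∈ P) :
    (e ⟨x, hxS⟩ : Ω') ∈ im e P :=
  (mem_im_iff e P _).2 ⟨x, hxS, hxP, rfl⟩

theorem im_le (e : S ≃* S') (P : Subgroup Ω) : im e P ≤ S' := by
  intro y hy
  obtain ⟨x, hx, -, rfl⟩ := (mem_im_iff e P y).1 hy
  exact (e ⟨x, hx⟩).2

theorem im_mono (e : S ≃* S') {P Q : Subgroup Ω} (h : P ≤ Q) : im e P ≤ im e Q := by
  intro y hy
  obtain ⟨x, hx, hxP, rfl⟩ := (mem_im_iff e P y).1 hy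
  exact apply_mem_im e hx (h hxP)

theorem im_self (e : S ≃* S') : im e S = S' := by
  apply le_antisymm (im_le e S)
  intro y hy
  have : (e (e.symm ⟨y, hy⟩) : Ω') = y := by rw [e.apply_symm_apply]
  rw [← this]
  exact apply_mem_im e (e.symm ⟨y, hy⟩).2 (e.symm ⟨y, hy⟩).2

theorem mem_of_apply_mem_im (e : S ≃* S') {P : Subgroup Ω} {x : Ω} (hxS : x ∈ S)
    (h : (e ⟨x, hxS⟩ : Ω') ∈ im e P) : x ∈ P := by
  obtain ⟨x', hx', hx'P, heq⟩ := (mem_im_iff e P _).1 h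
  have : (⟨x', hx'⟩ : S) = ⟨x, hxS⟩ := e.injective (Subtype.ext heq)
  have h2 : x' = x := congrArg Subtype.val this
  rw [← h2]
  exact hx'P

theorem im_le_im_iff (e : S ≃* S') {P Q : Subgroup Ω} (hP : P ≤ S) : im e P ≤ im e Q ↔ P ≤ Q := by
  constructor
  · intro h x hx
    exact mem_of_apply_mem_im e (hP hx) (h (apply_mem_im e (hP hx) hx))
  · exact im_mono e

theorem im_injective (e : S ≃* S') {P Q : Subgroup Ω} (hP : P ≤ S) (hQ : Q ≤ S) (h : im e P = im e Q) :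
    P = Q :=
  le_antisymm ((im_le_im_iff e hP).1 h.le) ((im_le_im_iff e hQ).1 h.ge)

theorem im_symm_im (e : S ≃* S') {P : Subgroup Ω} (hP : P ≤ S) : im e.symm (im e P) = P := by
  ext x
  rw [mem_im_iff]
  constructor
  · rintro ⟨y, hy, hyP, rfl⟩
    obtain ⟨x', hx', hx'P, heq⟩ := (mem_im_iff e P y).1 hyP
    have : (⟨y, hy⟩ : S') = e ⟨x', hx'⟩ := Subtype.ext heq.symm
    rw [this, e.symm_apply_apply]
    exact hx'P
  · intro hx
    refine ⟨(e ⟨x, hP hx⟩ : Ω'), (e ⟨x, hP hx⟩).2, apply_mem_im e (hP hx) hx, ?_⟩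
    rw [Subtype.coe_eta, e.symm_apply_apply]

theorem im_im_symm (e : S ≃* S') {P' : Subgroup Ω'} (hP' : P' ≤ S') : im e (im e.symm P') = P' := by
  have := im_symm_im e.symm hP'
  rwa [MulEquiv.symm_symm] at this

/-- The restriction of `e` to `P ≤ S`, as an isomorphism onto `im e P`. -/
noncomputable def imEquiv (e : S ≃* S') {P : Subgroup Ω} (hP : P ≤ S) : P ≃* im e P :=
  MulEquiv.ofBijective
    (((pairHom e).comp (Subgroup.inclusion hP)).codRestrict (im e P)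
      (fun x => apply_mem_im e (hP x.2) x.2))
    ⟨by
      intro a b h
      have h0 := congrArg Subtype.val h
      have h1 : (e ⟨a, hP a.2⟩ : Ω') = e ⟨b, hP b.2⟩ := h0
      have h2 : (⟨(a : Ω), hP a.2⟩ : S) = ⟨b, hP b.2⟩ := e.injective (Subtype.ext h1)
      exact Subtype.ext (congrArg (fun s : S => (s : Ω)) h2),
     by
      rintro ⟨y, hy⟩
      obtain ⟨x, hx, hxP, rfl⟩ := (mem_im_iff e P y).1 hy
      exact ⟨⟨x, hxP⟩, Subtype.ext rfl⟩⟩

theorem imEquiv_apply (e : S ≃* S') {P : Subgroup Ω} (hP : P ≤ S) (x : P) :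
    ((imEquiv e hP x : im e P) : Ω') = (e ⟨x, hP x.2⟩ : Ω') := rfl

theorem imEquiv_symm_apply (e : S ≃* S') {P : Subgroup Ω} (hP : P ≤ S) (x : P)
    (h : (e ⟨x, hP x.2⟩ : Ω') ∈ im e P) : (imEquiv e hP).symm ⟨e ⟨x, hP x.2⟩, h⟩ = x := by
  apply (imEquiv e hP).injective
  rw [MulEquiv.apply_symm_apply]
  exact Subtype.ext rfl

theorem card_im (e : S ≃* S') {P : Subgroup Ω} (hP : P ≤ S) : Nat.card (im e P) = Nat.card P :=
  (Nat.card_congr (imEquiv e hP).toEquiv).symm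

/-- The map `e ∘ φ ∘ e⁻¹` on `im e P`, for `φ : P →* Ω` with `P ≤ S` and values in `S`. -/
noncomputable def trMap (e : S ≃* S') {P : Subgroup Ω} (hP : P ≤ S) (φ : P →* Ω) (hφ : ∀ x, φ x ∈ S) :
    im e P →* Ω' :=
  ((pairHom e).comp (φ.codRestrict S hφ)).comp (imEquiv e hP).symm.toMonoidHom

theorem trMap_apply (e : S ≃* S') {P : Subgroup Ω} (hP : P ≤ S) (φ : P →* Ω) (hφ : ∀ x, φ x ∈ S) (x : P)
    (h : (e ⟨x, hP x.2⟩ : Ω') ∈ im e P) :
    trMap e hP φ hφ ⟨e ⟨x, hP x.2⟩, h⟩ = (e ⟨φ x, hφ x⟩ : Ω') := by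
  unfold trMap
  simp only [MonoidHom.comp_apply, MulEquiv.coe_toMonoidHom]
  rw [imEquiv_symm_apply]
  rfl

theorem inducedAlong_trMap (e : S ≃* S') {P : Subgroup Ω} (hP : P ≤ S) (φ : P →* Ω) (hφ : ∀ x, φ x ∈ S) :
    InducedAlong (pairHom e) φ (trMap e hP φ hφ) :=
  ⟨hP, hφ, fun x => apply_mem_im e (hP x.2) x.2, fun x => trMap_apply e hP φ hφ x _⟩

/-- An induced map on `im e P` is unique. -/
theorem inducedAlong_unique (e : S ≃* S') {P : Subgroup Ω} {φ : P →* Ω} {φ₁' φ₂' : im e P →* Ω'}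
    (h₁ : InducedAlong (pairHom e) φ φ₁') (h₂ : InducedAlong (pairHom e) φ φ₂') : φ₁' = φ₂' := by
  obtain ⟨hP, hφ, hP', h1⟩ := h₁
  obtain ⟨_, _, _, h2⟩ := h₂
  ext ⟨y, hy⟩
  obtain ⟨x, hx, hxP, rfl⟩ := (mem_im_iff e P y).1 hy
  have e1 := h1 ⟨x, hxP⟩
  have e2 := h2 ⟨x, hxP⟩
  exact e1.trans e2.symm

/-- Two maps with the same source inducing the same map are equal. -/
theorem inducedAlong_injective (e : S ≃* S') {P : Subgroup Ω} {φ₁ φ₂ : P →* Ω} {P' : Subgroup Ω'}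
    {φ' : P' →* Ω'} (h₁ : InducedAlong (pairHom e) φ₁ φ') (h₂ : InducedAlong (pairHom e) φ₂ φ') :
    φ₁ = φ₂ := by
  obtain ⟨hP, hφ1, hP', h1⟩ := h₁
  obtain ⟨_, hφ2, _, h2⟩ := h₂
  ext x
  have e1 := h1 x
  have e2 := h2 x
  have e3 : pairHom e ⟨φ₁ x, hφ1 x⟩ = pairHom e ⟨φ₂ x, hφ2 x⟩ := e1.symm.trans e2
  exact congrArg Subtype.val (pairHom_injective e e3)

/-- The inverse relation. -/
theorem inducedAlong_symm (e : S ≃* S') {P : Subgroup Ω} {φ : P →* Ω} {P' : Subgroup Ω'} {φ' : P' →* Ω'}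
    (hPP' : im e P = P') (h : InducedAlong (pairHom e) φ φ') : InducedAlong (pairHom e.symm) φ' φ := by
  obtain ⟨hP, hφ, hP', h1⟩ := h
  subst hPP'
  have key : ∀ y : im e P, ∃ x : P, (e ⟨x, hP x.2⟩ : Ω') = y := by
    rintro ⟨y, hy⟩
    obtain ⟨x, hx, hxP, rfl⟩ := (mem_im_iff e P y).1 hy
    exact ⟨⟨x, hxP⟩, rfl⟩
  refine ⟨im_le e P, ?_, ?_, ?_⟩
  · intro y
    obtain ⟨x, hx⟩ := key y
    have : φ' y = (e ⟨φ x, hφ x⟩ : Ω') := by
      have h1x := h1 x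
      have hy' : y = ⟨pairHom e ⟨x, hP x.2⟩, hP' x⟩ := Subtype.ext hx.symm
      rw [hy']
      exact h1x
    rw [this]
    exact (e ⟨φ x, hφ x⟩).2
  · intro y
    obtain ⟨x, hx⟩ := key y
    have : (⟨(y : Ω'), im_le e P y.2⟩ : S') = e ⟨x, hP x.2⟩ := Subtype.ext hx.symm
    show ((e.symm ⟨(y : Ω'), im_le e P y.2⟩ : S) : Ω) ∈ P
    rw [this, e.symm_apply_apply]
    exact x.2
  · intro y
    obtain ⟨x, hx⟩ := key y
    have hy : (⟨(y : Ω'), im_le e P y.2⟩ : S') = e ⟨x, hP x.2⟩ := Subtype.ext hx.symm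
    have hφ'y : φ' y = (e ⟨φ x, hφ x⟩ : Ω') := by
      have h1x := h1 x
      have hy' : y = ⟨pairHom e ⟨x, hP x.2⟩, hP' x⟩ := Subtype.ext hx.symm
      rw [hy']
      exact h1x
    show φ ⟨((e.symm ⟨(y : Ω'), im_le e P y.2⟩ : S) : Ω), _⟩ = ((e.symm ⟨φ' y, _⟩ : S) : Ω)
    have h3 : (⟨φ' y, (by rw [hφ'y]; exact (e ⟨φ x, hφ x⟩).2)⟩ : S') = e ⟨φ x, hφ x⟩ :=
      Subtype.ext hφ'y
    have h4 : ((e.symm ⟨(y : Ω'), im_le e P y.2⟩ : S) : Ω) = x := by
      rw [hy, e.symm_apply_apply]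
    have h5 : ∀ (hmem : φ' y ∈ S'), ((e.symm ⟨φ' y, hmem⟩ : S) : Ω) = φ x := by
      intro hmem
      have : (⟨φ' y, hmem⟩ : S') = e ⟨φ x, hφ x⟩ := Subtype.ext hφ'y
      rw [this, e.symm_apply_apply]
    rw [h5]
    congr 1
    exact Subtype.ext h4

/-- `E'` over `T'` is the image along `e` of `E` over `T ≤ S`. -/
def Corr (e : S ≃* S') {T : Subgroup Ω} (E : FusionSystem T) {T' : Subgroup Ω'} (E' : FusionSystem T') :
    Prop :=
  T ≤ S ∧ T' = im e T ∧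
    ∀ (P' : Subgroup Ω') (φ' : P' →* Ω'), φ' ∈ E'.Hom P' ↔
      ∃ (P : Subgroup Ω) (φ : P →* Ω), φ ∈ E.Hom P ∧ im e P = P' ∧ InducedAlong (pairHom e) φ φ'

/-- Uniqueness of the induced map, for a target only propositionally equal to `im e P`. -/
theorem inducedAlong_unique' (e : S ≃* S') {P : Subgroup Ω} {φ : P →* Ω} {P' : Subgroup Ω'}
    {φ₁' φ₂' : P' →* Ω'} (hPP' : im e P = P')
    (h₁ : InducedAlong (pairHom e) φ φ₁') (h₂ : InducedAlong (pairHom e) φ φ₂') : φ₁' = φ₂' := by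
  subst hPP'
  exact inducedAlong_unique e h₁ h₂

namespace Corr

variable {e : S ≃* S'} {T : Subgroup Ω} {E : FusionSystem T} {T' : Subgroup Ω'} {E' : FusionSystem T'}

theorem le (h : Corr e E E') : T ≤ S := h.1

theorem eq_im (h : Corr e E E') : T' = im e T := h.2.1

theorem le' (h : Corr e E E') : T' ≤ S' := by
  rw [h.eq_im]; exact im_le e T

/-- Maps of `E` induce maps of `E'`. -/
theorem mem_of_mem (h : Corr e E E') {P : Subgroup Ω} {φ : P →* Ω} (hφ : φ ∈ E.Hom P) {P' : Subgroup Ω'}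
    {φ' : P' →* Ω'} (hPP' : im e P = P') (hi : InducedAlong (pairHom e) φ φ') : φ' ∈ E'.Hom P' :=
  (h.2.2 P' φ').2 ⟨P, φ, hφ, hPP', hi⟩

/-- The map of `E'` induced by a map of `E`. -/
theorem trMap_mem (h : Corr e E E') {P : Subgroup Ω} {φ : P →* Ω} (hφ : φ ∈ E.Hom P) :
    trMap e ((E.le_of_mem hφ).1.trans h.le) φ (fun x => h.le ((E.le_of_mem hφ).2 x)) ∈ E'.Hom (im e P) :=
  h.mem_of_mem hφ rfl (inducedAlong_trMap e _ φ _)

theorem exists_of_mem (h : Corr e E E') {P' : Subgroup Ω'} {φ' : P' →* Ω'} (hφ' : φ' ∈ E'.Hom P') :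
    ∃ (P : Subgroup Ω) (φ : P →* Ω), φ ∈ E.Hom P ∧ im e P = P' ∧ InducedAlong (pairHom e) φ φ' :=
  (h.2.2 P' φ').1 hφ'

/-- Membership is reflected. -/
theorem mem_iff (h : Corr e E E') {P : Subgroup Ω} {φ : P →* Ω} {P' : Subgroup Ω'} {φ' : P' →* Ω'}
    (hPP' : im e P = P') (hi : InducedAlong (pairHom e) φ φ') : φ ∈ E.Hom P ↔ φ' ∈ E'.Hom P' := by
  constructor
  · intro hφ
    exact h.mem_of_mem hφ hPP' hi
  · intro hφ'
    obtain ⟨P₀, φ₀, hφ₀, hP₀, hi₀⟩ := h.exists_of_mem hφ'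
    have hP₀S : P₀ ≤ S := (E.le_of_mem hφ₀).1.trans h.le
    have hPS : P ≤ S := hi.1
    have hPP₀ : P₀ = P := im_injective e hP₀S hPS (hP₀.trans hPP'.symm)
    subst hPP₀
    have : φ₀ = φ := inducedAlong_injective e hi₀ hi
    rw [← this]
    exact hφ₀

/-- The correspondence is symmetric. -/
theorem symm (h : Corr e E E') : Corr e.symm E' E := by
  refine ⟨h.le', ?_, ?_⟩
  · rw [h.eq_im, im_symm_im e h.le]
  · intro P φ
    constructor
    · intro hφ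
      have hPS : P ≤ S := (E.le_of_mem hφ).1.trans h.le
      have hφS : ∀ x, φ x ∈ S := fun x => h.le ((E.le_of_mem hφ).2 x)
      exact ⟨im e P, trMap e hPS φ hφS, h.trMap_mem hφ, im_symm_im e hPS,
        inducedAlong_symm e rfl (inducedAlong_trMap e hPS φ hφS)⟩
    · rintro ⟨P', φ', hφ', hP'P, hi⟩
      obtain ⟨P₀, φ₀, hφ₀, hP₀, hi₀⟩ := h.exists_of_mem hφ'
      have hP₀S : P₀ ≤ S := (E.le_of_mem hφ₀).1.trans h.le
      have hPP₀ : P₀ = P := by
        rw [← hP'P, ← hP₀, im_symm_im e hP₀S]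
      subst hPP₀
      have hi₀' : InducedAlong (pairHom e.symm) φ' φ₀ := inducedAlong_symm e hP₀ hi₀
      have : φ₀ = φ := inducedAlong_unique' e.symm hP'P hi₀' hi
      rw [← this]
      exact hφ₀

end Corr

/-! ### Automorphism groups -/

/-- Transport of automorphisms of `P ≤ S` to automorphisms of `im e P`. -/
noncomputable def autCongr (e : S ≃* S') {P : Subgroup Ω} (hP : P ≤ S) : MulAut P ≃* MulAut (im e P) :=
  MulAut.congr (imEquiv e hP)

theorem autCongr_apply (e : S ≃* S') {P : Subgroup Ω} (hP : P ≤ S) (α : MulAut P) (x : P) :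
    autCongr e hP α (imEquiv e hP x) = imEquiv e hP (α x) := by
  unfold autCongr
  simp [MulAut.congr]

theorem autCongr_apply_coe (e : S ≃* S') {P : Subgroup Ω} (hP : P ≤ S) (α : MulAut P) (x : P)
    (h : (e ⟨x, hP x.2⟩ : Ω') ∈ im e P) :
    ((autCongr e hP α ⟨e ⟨x, hP x.2⟩, h⟩ : im e P) : Ω') = (e ⟨α x, hP (α x).2⟩ : Ω') := by
  have h1 : (⟨e ⟨x, hP x.2⟩, h⟩ : im e P) = imEquiv e hP x := Subtype.ext rfl
  rw [h1, autCongr_apply]
  rfl

theorem inducedAlong_autCongr (e : S ≃* S') {P : Subgroup Ω} (hP : P ≤ S) (α : MulAut P) :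
    InducedAlong (pairHom e) (P.subtype.comp (α : P ≃* P).toMonoidHom)
      ((im e P).subtype.comp (autCongr e hP α : im e P ≃* im e P).toMonoidHom) :=
  ⟨hP, fun x => hP (α x).2, fun x => apply_mem_im e (hP x.2) x.2,
    fun x => autCongr_apply_coe e hP α x _⟩

/-- `Aut_{E'}(e P)` is the transport of `Aut_E(P)`. -/
theorem Corr.autCongr_mem_autGroup_iff {e : S ≃* S'} {T : Subgroup Ω} {E : FusionSystem T}
    {T' : Subgroup Ω'} {E' : FusionSystem T'} (h : Corr e E E') {P : Subgroup Ω} (hP : P ≤ T)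
    (α : MulAut P) :
    autCongr e (hP.trans h.le) α ∈ E'.autGroup (im e P) ↔ α ∈ E.autGroup P := by
  have hP' : im e P ≤ T' := by
    rw [h.eq_im]; exact im_mono e hP
  rw [Cfsg.Agent.Lib.Helper87.mem_autGroup_iff E' hP', Cfsg.Agent.Lib.Helper87.mem_autGroup_iff E hP]
  exact (h.mem_iff rfl (inducedAlong_autCongr e (hP.trans h.le) α)).symm

/-- Every element of `Aut_{E'}(e P)` is the transport of an element of `Aut_E(P)`. -/
theorem Corr.exists_autCongr_eq {e : S ≃* S'} {T : Subgroup Ω} {E : FusionSystem T}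
    {T' : Subgroup Ω'} {E' : FusionSystem T'} (h : Corr e E E') {P : Subgroup Ω} (hP : P ≤ T)
    {α' : MulAut (im e P)} (hα' : α' ∈ E'.autGroup (im e P)) :
    ∃ α ∈ E.autGroup P, autCongr e (hP.trans h.le) α = α' := by
  refine ⟨(autCongr e (hP.trans h.le)).symm α', ?_, MulEquiv.apply_symm_apply _ _⟩
  rw [← h.autCongr_mem_autGroup_iff hP, MulEquiv.apply_symm_apply]
  exact hα'

end Cfsg.Agent.Lib.Helper84.FTr
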