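import Mathlib
import Cfsg.Agent.Lib.Helper84.FTr.Core
import Cfsg.Agent.Lib.Helper85.FusionFactor

set_option autoImplicit false

/-! # `Corr` versus `IsFactorSystem ⊥` (module FTR-[BIFF], helper84) -/

namespace Cfsg.Agent.Lib.Helper84.FTr

open Cfsg Cfsg.FusionSystem

variable {Ω : Type*} [Group Ω] {Ω' : Type*} [Group Ω'] {S : Subgroup Ω} {S' : Subgroup Ω'}

/-- The restriction of `pairHom e` to `T ≤ S`. -/
def resHom (e : S ≃* S') {T : Subgroup Ω} (hT : T ≤ S) : T →* Ω' :=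
  (pairHom e).comp (Subgroup.inclusion hT)

theorem resHom_apply (e : S ≃* S') {T : Subgroup Ω} (hT : T ≤ S) (x : T) :
    resHom e hT x = (e ⟨x, hT x.2⟩ : Ω') := rfl

theorem resHom_range (e : S ≃* S') {T : Subgroup Ω} (hT : T ≤ S) : (resHom e hT).range = im e T := by
  ext y
  rw [mem_im_iff]
  constructor
  · rintro ⟨x, rfl⟩
    exact ⟨x, hT x.2, x.2, rfl⟩
  · rintro ⟨x, hx, hxT, rfl⟩
    exact ⟨⟨x, hxT⟩, rfl⟩

theorem resHom_eq_one_iff (e : S ≃* S') {T : Subgroup Ω} (hT : T ≤ S) (s : T) :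
    resHom e hT s = 1 ↔ (s : Ω) ∈ (⊥ : Subgroup Ω) := by
  rw [Subgroup.mem_bot, resHom_apply]
  constructor
  · intro h
    have h1 : e ⟨s, hT s.2⟩ = 1 := Subtype.ext h
    have h2 : (⟨(s : Ω), hT s.2⟩ : S) = 1 := by
      rw [← e.map_one] at h1
      exact e.injective h1
    exact congrArg Subtype.val h2
  · intro h
    have h2 : (⟨(s : Ω), hT s.2⟩ : S) = 1 := Subtype.ext h
    rw [h2, map_one]
    rfl

theorem mem_preimageAlong_resHom (e : S ≃* S') {T : Subgroup Ω} (hT : T ≤ S) (P' : Subgroup Ω') (x : Ω) :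
    x ∈ preimageAlong (resHom e hT) P' ↔ ∃ hx : x ∈ T, (e ⟨x, hT hx⟩ : Ω') ∈ P' :=
  Cfsg.Agent.Lib.Helper85.mem_preimageAlong_iff _ _ _

theorem preimageAlong_resHom_im (e : S ≃* S') {T : Subgroup Ω} (hT : T ≤ S) {P : Subgroup Ω} (hP : P ≤ T) :
    preimageAlong (resHom e hT) (im e P) = P := by
  ext x
  rw [mem_preimageAlong_resHom]
  constructor
  · rintro ⟨hx, hx'⟩
    exact mem_of_apply_mem_im e (hT hx) hx'
  · intro hx
    exact ⟨hP hx, apply_mem_im e (hT (hP hx)) hx⟩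

theorem im_preimageAlong_resHom (e : S ≃* S') {T : Subgroup Ω} (hT : T ≤ S) {P' : Subgroup Ω'}
    (hP' : P' ≤ im e T) : im e (preimageAlong (resHom e hT) P') = P' := by
  ext y
  rw [mem_im_iff]
  constructor
  · rintro ⟨x, hx, hxpre, rfl⟩
    obtain ⟨_, hx'⟩ := (mem_preimageAlong_resHom e hT P' x).1 hxpre
    exact hx'
  · intro hy
    obtain ⟨x, hx, hxT, rfl⟩ := (mem_im_iff e T y).1 (hP' hy)
    exact ⟨x, hx, (mem_preimageAlong_resHom e hT P' x).2 ⟨hxT, hy⟩, rfl⟩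

theorem inducedAlong_resHom_iff (e : S ≃* S') {T : Subgroup Ω} (hT : T ≤ S) {P : Subgroup Ω} (hP : P ≤ T)
    {φ : P →* Ω} (hφ : ∀ x, φ x ∈ T) {P' : Subgroup Ω'} (φ' : P' →* Ω') :
    InducedAlong (resHom e hT) φ φ' ↔ InducedAlong (pairHom e) φ φ' := by
  constructor
  · rintro ⟨_, _, h3, h4⟩
    exact ⟨hP.trans hT, fun x => hT (hφ x), fun x => h3 x, fun x => h4 x⟩
  · rintro ⟨_, _, h3, h4⟩
    exact ⟨hP, hφ, fun x => h3 x, fun x => h4 x⟩

/-- The two descriptions of the maps of the image system agree. -/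
theorem hom_desc_iff (e : S ≃* S') {T : Subgroup Ω} (hT : T ≤ S) (E : FusionSystem T)
    (P' : Subgroup Ω') (φ' : P' →* Ω') :
    (∃ (P : Subgroup Ω) (φ : P →* Ω), φ ∈ E.Hom P ∧ im e P = P' ∧ InducedAlong (pairHom e) φ φ') ↔
      (P' ≤ im e T ∧ ∃ φ ∈ E.Hom (preimageAlong (resHom e hT) P'), InducedAlong (resHom e hT) φ φ') := by
  constructor
  · rintro ⟨P, φ, hφ, hPP', hi⟩
    have hPT : P ≤ T := (E.le_of_mem hφ).1
    have hφT : ∀ x, φ x ∈ T := (E.le_of_mem hφ).2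
    have hpre : P = preimageAlong (resHom e hT) P' := by
      rw [← hPP', preimageAlong_resHom_im e hT hPT]
    subst hpre
    refine ⟨?_, φ, hφ, (inducedAlong_resHom_iff e hT hPT hφT φ').2 hi⟩
    rw [← hPP']
    exact im_mono e hPT
  · rintro ⟨hP', φ, hφ, hi⟩
    have hPT : preimageAlong (resHom e hT) P' ≤ T := (E.le_of_mem hφ).1
    have hφT : ∀ x, φ x ∈ T := (E.le_of_mem hφ).2
    exact ⟨_, φ, hφ, im_preimageAlong_resHom e hT hP', (inducedAlong_resHom_iff e hT hPT hφT φ').1 hi⟩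

/-- MODULE FTR-[BIFF]. -/
theorem corr_iff_isFactorSystem_bot (e : S ≃* S') {T : Subgroup Ω} (hT : T ≤ S) (E : FusionSystem T)
    {T' : Subgroup Ω'} (E' : FusionSystem T') :
    Corr e E E' ↔ E.IsFactorSystem ⊥ ((pairHom e).comp (Subgroup.inclusion hT)) E' := by
  show Corr e E E' ↔ E.IsFactorSystem ⊥ (resHom e hT) E'
  constructor
  · rintro ⟨_, hT', hH⟩
    refine ⟨bot_le, resHom_eq_one_iff e hT, ?_, fun P' φ' => ?_⟩
    · rw [resHom_range, hT']
    · rw [hH P' φ', hom_desc_iff e hT E P' φ', hT']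
  · rintro ⟨_, _, hrange, hH⟩
    have hT' : T' = im e T := by rw [← hrange, resHom_range]
    refine ⟨hT, hT', fun P' φ' => ?_⟩
    rw [hH P' φ', hom_desc_iff e hT E P' φ', hT']

end Cfsg.Agent.Lib.Helper84.FTr
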