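import Mathlib
import Cfsg.Agent.Lib.Helper84.FTr.BIff
import Cfsg.Agent.Lib.Helper85.FusionFactor

set_option autoImplicit false

/-! # Existence of the image system (module FTR-[PUSH], short route through `factorSystem`) -/

namespace Cfsg.Agent.Lib.Helper84.FTr

open Cfsg Cfsg.FusionSystem

variable {Ω : Type*} [Group Ω] {Ω' : Type*} [Group Ω'] {S : Subgroup Ω} {S' : Subgroup Ω'}

theorem stronglyClosed_bot {T : Subgroup Ω} (E : FusionSystem T) : E.StronglyClosed ⊥ := by
  refine ⟨bot_le, fun R hR φ _ x => ?_⟩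
  have hx : (x : Ω) = 1 := by
    have := hR x.2
    rwa [Subgroup.mem_bot] at this
  have : x = 1 := Subtype.ext hx
  rw [this, map_one]
  exact Subgroup.one_mem _

/-- MODULE FTR-[PUSH]. -/
theorem exists_corr [Finite S] (e : S ≃* S') {T : Subgroup Ω} (hT : T ≤ S) (E : FusionSystem T) :
    ∃ (T' : Subgroup Ω') (E' : FusionSystem T'), Corr e E E' := by
  have : Finite T := Finite.of_injective (Subgroup.inclusion hT) (Subgroup.inclusion_injective hT)
  refine ⟨im e T, Cfsg.Agent.Lib.Helper85.factorSystem E ⊥ (stronglyClosed_bot E) (resHom e hT)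
    (resHom_eq_one_iff e hT) (resHom_range e hT), ?_⟩
  rw [corr_iff_isFactorSystem_bot e hT]
  exact Cfsg.Agent.Lib.Helper85.isFactorSystem_factorSystem E ⊥ (stronglyClosed_bot E) (resHom e hT)
    (resHom_eq_one_iff e hT) (resHom_range e hT)

end Cfsg.Agent.Lib.Helper84.FTr
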