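import Mathlib
import Cfsg.Agent.Lib.Helper84.FTr.Core
import Cfsg.Agent.Lib.Helper84.FTr.BIff
import Cfsg.Agent.Lib.Helper84.FTr.Push
import Cfsg.Agent.Lib.Helper67.FTrTrans
import Cfsg.Agent.Lib.Helper50.FTrExt
import Cfsg.Agent.Lib.Helper14.FTrInv
import Cfsg.Agent.Lib.Helper45.FTrCen
import Cfsg.Agent.Lib.Helper3.FTrFUniq
import Cfsg.Agent.Lib.Helper50.FTrHyp
import Cfsg.Agent.Lib.Helper45.FTrAgree
import Cfsg.Agent.Lib.Helper45.FTrSelf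
import Cfsg.Agent.Lib.Helper45.FTrAutF
import Cfsg.Agent.Lib.Helper3.FTrFComp

set_option autoImplicit false

/-! # The FTr modules (proved by helper3, helper14, helper45, helper50, helper67, helper84), under uniform names -/

namespace Cfsg.Agent.Lib.Helper84.FTr

open Cfsg Cfsg.FusionSystem

variable {Ω : Type*} [Group Ω] {Ω' : Type*} [Group Ω'] {S : Subgroup Ω} {S' : Subgroup Ω'}

/-- MODULE [AGREE] -/
theorem Corr.of_agree {S₂ : Subgroup Ω} {S₂' : Subgroup Ω'} {e : S ≃* S'} (e₂ : S₂ ≃* S₂')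
    {T : Subgroup Ω} {E : FusionSystem T} {T' : Subgroup Ω'} {E' : FusionSystem T'}
    (h : Corr e E E') (hT₂ : T ≤ S₂)
    (hagree : ∀ (x : Ω) (hx : x ∈ T), (e₂ ⟨x, hT₂ hx⟩ : Ω') = (e ⟨x, h.le hx⟩ : Ω')) :
    Corr e₂ E E' :=
  Cfsg.Agent.Lib.Helper45.FTr.corr_of_agree e₂ h hT₂ hagree

/-- MODULE [TRANS] -/
theorem Corr.trans {Ω'' : Type*} [Group Ω''] {S'' : Subgroup Ω''} {e : S ≃* S'} {e' : S' ≃* S''}
    {T : Subgroup Ω} {E : FusionSystem T} {T' : Subgroup Ω'} {E' : FusionSystem T'}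
    {T'' : Subgroup Ω''} {E'' : FusionSystem T''}
    (h : Corr e E E') (h' : Corr e' E' E'') : Corr (e.trans e') E E'' :=
  Cfsg.Agent.Lib.Helper67.FTrTrans.corr_trans h h'

/-- MODULE [INV] -/
theorem Corr.isInvariantIn {e : S ≃* S'} {T U : Subgroup Ω} {E : FusionSystem T} {D : FusionSystem U}
    {T' U' : Subgroup Ω'} {E' : FusionSystem T'} {D' : FusionSystem U'}
    (hE : Corr e E E') (hD : Corr e D D') (h : E.IsInvariantIn D) : E'.IsInvariantIn D' :=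
  Cfsg.Agent.Lib.Helper14.FTr.corr_isInvariantIn hE hD h

/-- MODULE [EXT] -/
theorem Corr.extension {e : S ≃* S'} {T U : Subgroup Ω} {E : FusionSystem T} {D : FusionSystem U}
    {T' U' : Subgroup Ω'} {E' : FusionSystem T'} {D' : FusionSystem U'}
    (hE : Corr e E E') (hD : Corr e D D') (hTU : T ≤ U)
    (h : ∀ α ∈ E.autGroup T, ∃ β ∈ D.autGroup (T ⊔ centralizerIn U T),
      (∀ x : T, ((β (Subgroup.inclusion le_sup_left x) : ↥(T ⊔ centralizerIn U T)) : Ω) = ((α x : T) : Ω)) ∧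
      ∀ c : ↥(T ⊔ centralizerIn U T), (c : Ω) ∈ centralizerIn U T →
        (c : Ω)⁻¹ * ((β c : ↥(T ⊔ centralizerIn U T)) : Ω) ∈ T ⊓ Subgroup.centralizer (T : Set Ω)) :
    ∀ α ∈ E'.autGroup T', ∃ β ∈ D'.autGroup (T' ⊔ centralizerIn U' T'),
      (∀ x : T', ((β (Subgroup.inclusion le_sup_left x) : ↥(T' ⊔ centralizerIn U' T')) : Ω') = ((α x : T') : Ω')) ∧
      ∀ c : ↥(T' ⊔ centralizerIn U' T'), (c : Ω') ∈ centralizerIn U' T' →
        (c : Ω')⁻¹ * ((β c : ↥(T' ⊔ centralizerIn U' T')) : Ω') ∈ T' ⊓ Subgroup.centralizer (T' : Set Ω') :=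
  Cfsg.Agent.Lib.Helper50.FTr.corr_extension hE hD hTU h

/-- MODULE [HYP] -/
theorem Corr.hyperfocalSubgroup {e : S ≃* S'} {T : Subgroup Ω} {E : FusionSystem T} {T' : Subgroup Ω'}
    {E' : FusionSystem T'} (h : Corr e E E') (p : ℕ) :
    E'.hyperfocalSubgroup p = im e (E.hyperfocalSubgroup p) :=
  Cfsg.Agent.Lib.Helper50.FTr.corr_hyperfocalSubgroup h p

/-- MODULE [CEN] -/
theorem Corr.center {e : S ≃* S'} {T : Subgroup Ω} {E : FusionSystem T} {T' : Subgroup Ω'}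
    {E' : FusionSystem T'} (h : Corr e E E') : E'.center = im e E.center :=
  Cfsg.Agent.Lib.Helper45.FTr.corr_center h

/-- MODULE [FCOMP] -/
theorem isFactorSystem_comp_bot {Ω'' : Type*} [Group Ω''] {S'' : Subgroup Ω''} {F : FusionSystem S}
    {θ : S →* Ω'} {E : FusionSystem S'} (hE : F.IsFactorSystem ⊥ θ E) {L : Subgroup Ω'}
    {θ' : S' →* Ω''} {E'' : FusionSystem S''} (hE'' : E.IsFactorSystem L θ' E'') (θ₂ : S →* Ω'')
    (hθ₂ : ∀ (s : S) (hs : θ s ∈ S'), θ₂ s = θ' ⟨θ s, hs⟩) :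
    F.IsFactorSystem (preimageAlong θ L) θ₂ E'' :=
  Cfsg.Agent.Lib.Helper3.FTr.isFactorSystem_comp_bot hE hE'' θ₂ hθ₂

/-- MODULE [FUNIQ] -/
theorem exists_corr_of_isFactorSystem {Ω₁ Ω₂ : Type*} [Group Ω₁] [Group Ω₂] {S₁ : Subgroup Ω₁}
    {S₂ : Subgroup Ω₂} {F : FusionSystem S} {K : Subgroup Ω} {θ₁ : S →* Ω₁} {θ₂ : S →* Ω₂}
    {E₁ : FusionSystem S₁} {E₂ : FusionSystem S₂} (h₁ : F.IsFactorSystem K θ₁ E₁)
    (h₂ : F.IsFactorSystem K θ₂ E₂) :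
    ∃ b : S₁ ≃* S₂, (∀ (s : S) (hs : θ₁ s ∈ S₁), ((b ⟨θ₁ s, hs⟩ : S₂) : Ω₂) = θ₂ s) ∧ Corr b E₁ E₂ :=
  Cfsg.Agent.Lib.Helper3.FTr.exists_corr_of_isFactorSystem h₁ h₂

/-- MODULE [AUTF] -/
theorem corr_of_mem_autGroup {U Sf : Subgroup Ω} {D : FusionSystem U} {F : FusionSystem Sf}
    (hDF : D.IsInvariantIn F) (α : MulAut U) (hα : α ∈ F.autGroup U) :
    Corr (α : U ≃* U) D D :=
  Cfsg.Agent.Lib.Helper45.FTr.corr_of_mem_autGroup hDF α hα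

/-- MODULE [SELF] -/
theorem corr_self_of_isIso {F : FusionSystem S} (α : S ≃* S)
    (hα : S.subtype.comp α.toMonoidHom ∈ F.Hom S) : Corr α F F :=
  Cfsg.Agent.Lib.Helper45.FTr.corr_self_of_isIso α hα

end Cfsg.Agent.Lib.Helper84.FTr
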