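import Mathlib
import Cfsg.Agent.Lib.Helper84.FTr.Core
import Cfsg.Agent.Lib.Helper84.FTr.Mods
import Cfsg.Agent.Lib.Helper87.FusionCore
import Cfsg.Agent.Lib.Helper85.FusionFactor
import Cfsg.Agent.Lib.Helper85.FusionNormal
import Cfsg.Agent.Lib.Helper85.FusionQuotSat

set_option autoImplicit false

/-! # Transport: derived results (normal, subnormal, simple, quasisimple, component) -/

namespace Cfsg.Agent.Lib.Helper84.FTr

open Cfsg Cfsg.FusionSystem

variable {Ω : Type*} [Group Ω] {Ω' : Type*} [Group Ω'] {S : Subgroup Ω} {S' : Subgroup Ω'}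

theorem Corr.isSubsystemOf {e : S ≃* S'} {T U : Subgroup Ω} {E : FusionSystem T} {D : FusionSystem U}
    {T' U' : Subgroup Ω'} {E' : FusionSystem T'} {D' : FusionSystem U'}
    (hE : Corr e E E') (hD : Corr e D D') (h : E.IsSubsystemOf D) : E'.IsSubsystemOf D' := by
  intro P' φ' hφ'
  obtain ⟨P, φ, hφ, hP, hi⟩ := hE.exists_of_mem hφ'
  exact hD.mem_of_mem (h P hφ) hP hi

/-- Two images of the same system along the same isomorphism coincide. -/
theorem Corr.unique {e : S ≃* S'} {T : Subgroup Ω} {E : FusionSystem T} {T₁' T₂' : Subgroup Ω'}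
    {E₁' : FusionSystem T₁'} {E₂' : FusionSystem T₂'} (h₁ : Corr e E E₁') (h₂ : Corr e E E₂') :
    T₁' = T₂' ∧ ∀ (P' : Subgroup Ω') (φ' : P' →* Ω'), φ' ∈ E₁'.Hom P' ↔ φ' ∈ E₂'.Hom P' := by
  refine ⟨h₁.eq_im.trans h₂.eq_im.symm, fun P' φ' => ?_⟩
  rw [h₁.2.2 P' φ', h₂.2.2 P' φ']

/-- Fusion systems over the same subgroup with the same maps are equal. -/
theorem fusionSystem_ext {T : Subgroup Ω} {E₁ E₂ : FusionSystem T}
    (h : ∀ (P : Subgroup Ω) (φ : P →* Ω), φ ∈ E₁.Hom P ↔ φ ∈ E₂.Hom P) : E₁ = E₂ := by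
  cases E₁
  cases E₂
  congr
  funext P
  ext φ
  exact h P φ

/-- Subnormality only depends on the maps. -/
theorem isSubnormalIn_of_hom_eq {T₁ T₂ Sf : Subgroup Ω} {E₁ : FusionSystem T₁} {E₂ : FusionSystem T₂}
    {F : FusionSystem Sf} {p : ℕ} (hT : T₁ = T₂)
    (h : ∀ (P : Subgroup Ω) (φ : P →* Ω), φ ∈ E₁.Hom P ↔ φ ∈ E₂.Hom P)
    (h₂ : E₂.IsSubnormalIn F p) : E₁.IsSubnormalIn F p := by
  subst hT
  have : E₁ = E₂ := fusionSystem_ext h
  rw [this]
  exact h₂

/-- Saturation is transported. -/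
theorem Corr.isSaturated [Finite S] {p : ℕ} [Fact p.Prime] (hS : IsPGroup p S) {e : S ≃* S'}
    {T : Subgroup Ω} {E : FusionSystem T} {T' : Subgroup Ω'} {E' : FusionSystem T'}
    (h : Corr e E E') (hE : E.IsSaturated p) : E'.IsSaturated p := by
  have hT : IsPGroup p T := hS.to_le h.le
  have : Finite T := Finite.of_injective (Subgroup.inclusion h.le) (Subgroup.inclusion_injective h.le)
  have hfac := (corr_iff_isFactorSystem_bot e h.le E E').1 h
  exact Cfsg.Agent.Lib.Helper85.isSaturated_of_isFactorSystem hT E hE (stronglyClosed_bot E) _ E' hfac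

/-- An isomorphism of fusion systems in the sense of `IsFactorSystem ⊥` is a correspondence. -/
theorem corr_of_isFactorSystem_bot {T : Subgroup Ω} (C : FusionSystem T) (γ : T →* Ω')
    (hγ : Function.Injective γ) (E : FusionSystem γ.range) (hE : C.IsFactorSystem ⊥ γ E) :
    Corr (MonoidHom.ofInjective hγ) C E := by
  rw [corr_iff_isFactorSystem_bot (MonoidHom.ofInjective hγ) le_rfl C E]
  have : (pairHom (MonoidHom.ofInjective hγ)).comp (Subgroup.inclusion (le_refl T)) = γ :=
    MonoidHom.ext fun x => rfl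
  rw [this]
  exact hE

theorem center_stronglyClosed [Finite S] (F : FusionSystem S) : F.StronglyClosed F.center := by
  have hZc : F.IsCentral F.center := Cfsg.Agent.Lib.Helper85.isCentral_center F
  refine ⟨hZc.1, fun R hR φ hφ x => ?_⟩
  obtain ⟨ψ, -, hψ1, hψ2⟩ := hZc.2 R φ hφ
  have h1 := hψ1 x
  have h2 := hψ2 ⟨x, hR x.2⟩
  have h12 : (Subgroup.inclusion (le_sup_left : R ≤ R ⊔ F.center) x) =
      Subgroup.inclusion (le_sup_right : F.center ≤ R ⊔ F.center) ⟨x, hR x.2⟩ := Subtype.ext rfl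
  rw [h12, h2] at h1
  rw [← h1]
  exact hR x.2

/-- The factor systems modulo the centres correspond. -/
theorem Corr.exists_factor_corr [Finite S] {e : S ≃* S'} {T : Subgroup Ω} {C : FusionSystem T}
    {T' : Subgroup Ω'} {C' : FusionSystem T'} (h : Corr e C C')
    (E'' : FusionSystem (⊤ : Subgroup (↥T' ⧸ (C'.center).subgroupOf T')))
    (hE'' : C'.IsFactorSystem C'.center (QuotientGroup.mk' ((C'.center).subgroupOf T')) E'') :
    ∃ (E₀ : FusionSystem (⊤ : Subgroup (↥T ⧸ (C.center).subgroupOf T)))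
      (b : ↥(⊤ : Subgroup (↥T ⧸ (C.center).subgroupOf T)) ≃*
        ↥(⊤ : Subgroup (↥T' ⧸ (C'.center).subgroupOf T'))),
      C.IsFactorSystem C.center (QuotientGroup.mk' ((C.center).subgroupOf T)) E₀ ∧ Corr b E₀ E'' := by
  have : Finite T := Finite.of_injective (Subgroup.inclusion h.le) (Subgroup.inclusion_injective h.le)
  have hfac := (corr_iff_isFactorSystem_bot e h.le C C').1 h
  have hmem : ∀ x : T, ((pairHom e).comp (Subgroup.inclusion h.le)) x ∈ T' := by
    intro x
    have h1 : T' = im e T := h.eq_im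
    have h2 : (pairHom e) (Subgroup.inclusion h.le x) ∈ im e T := apply_mem_im e (h.le x.2) x.2
    exact h1 ▸ h2
  set θ := (pairHom e).comp (Subgroup.inclusion h.le) with hθ
  have hcomp := isFactorSystem_comp_bot hfac hE''
    ((QuotientGroup.mk' ((C'.center).subgroupOf T')).comp (θ.codRestrict T' hmem))
    (fun s hs => rfl)
  have hZT : C.center ≤ T := (Cfsg.Agent.Lib.Helper85.isCentral_center C).1
  have hpre : preimageAlong θ C'.center = C.center := by
    rw [h.center]
    ext x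
    rw [Cfsg.Agent.Lib.Helper85.mem_preimageAlong_iff]
    constructor
    · rintro ⟨hx, hx'⟩
      exact mem_of_apply_mem_im e (h.le hx) hx'
    · intro hx
      exact ⟨hZT hx, apply_mem_im e (h.le (hZT hx)) hx⟩
  rw [hpre] at hcomp
  have hsc := center_stronglyClosed C
  have hker : ∀ s : T, QuotientGroup.mk' ((C.center).subgroupOf T) s = 1 ↔ (s : Ω) ∈ C.center := by
    intro s
    rw [QuotientGroup.mk'_apply, QuotientGroup.eq_one_iff, Subgroup.mem_subgroupOf]
  have hrange : (QuotientGroup.mk' ((C.center).subgroupOf T)).range = ⊤ :=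
    MonoidHom.range_eq_top.mpr (QuotientGroup.mk'_surjective _)
  have hE₀ := Cfsg.Agent.Lib.Helper85.isFactorSystem_factorSystem C C.center hsc _ hker hrange
  obtain ⟨b, -, hb⟩ := exists_corr_of_isFactorSystem hE₀ hcomp
  exact ⟨_, b, hE₀, hb⟩

theorem le_of_isNormalIn {U Sf : Subgroup Ω} {D : FusionSystem U} {F : FusionSystem Sf} {p : ℕ}
    (h : D.IsNormalIn F p) : U ≤ Sf := h.1.2.2.2.1.1

theorem le_of_isSubnormalIn {T Sf : Subgroup Ω} {E : FusionSystem T} {F : FusionSystem Sf} {p : ℕ}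
    (h : E.IsSubnormalIn F p) : T ≤ Sf := by
  induction h with
  | refl F p => exact le_rfl
  | step _ hDF ih => exact ih.trans (le_of_isNormalIn hDF)

theorem Corr.isNormalIn [Finite S] {p : ℕ} [Fact p.Prime] (hS : IsPGroup p S) {e : S ≃* S'}
    {T U : Subgroup Ω} {E : FusionSystem T} {D : FusionSystem U}
    {T' U' : Subgroup Ω'} {E' : FusionSystem T'} {D' : FusionSystem U'}
    (hE : Corr e E E') (hD : Corr e D D') (h : E.IsNormalIn D p) : E'.IsNormalIn D' p := by
  have hTU : T ≤ U := le_of_isNormalIn h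
  obtain ⟨⟨hEs, hDs, hinv⟩, hext⟩ := h
  exact ⟨⟨hE.isSaturated hS hEs, hD.isSaturated hS hDs, hE.isInvariantIn hD hinv⟩,
    hE.extension hD hTU hext⟩

theorem Corr.isSubnormalIn_aux [Finite S] {e : S ≃* S'}
    {T Sf : Subgroup Ω} {E : FusionSystem T} {F : FusionSystem Sf} {p : ℕ}
    (h : E.IsSubnormalIn F p) :
    ∀ (_ : Fact p.Prime) (_ : IsPGroup p S) {T' Sf' : Subgroup Ω'} {E' : FusionSystem T'}
      {F' : FusionSystem Sf'}, Corr e E E' → Corr e F F' → E'.IsSubnormalIn F' p := by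
  induction h with
  | refl F p =>
    intro _ _ T' Sf' E' F' hE hF
    obtain ⟨hT, hH⟩ := hE.unique hF
    exact isSubnormalIn_of_hom_eq hT hH (IsSubnormalIn.refl F' p)
  | step hED hDF ih =>
    intro hp hS T' Sf' E' F' hE hF
    have hU := (le_of_isNormalIn hDF).trans hF.le
    obtain ⟨U', D', hD⟩ := exists_corr e hU _
    exact IsSubnormalIn.step (ih hp hS hE hD) (hD.isNormalIn hS hF hDF)

theorem Corr.isSubnormalIn [Finite S] {p : ℕ} [hp : Fact p.Prime] (hS : IsPGroup p S) {e : S ≃* S'}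
    {T Sf : Subgroup Ω} {E : FusionSystem T} {F : FusionSystem Sf} (h : E.IsSubnormalIn F p)
    {T' Sf' : Subgroup Ω'} {E' : FusionSystem T'} {F' : FusionSystem Sf'}
    (hE : Corr e E E') (hF : Corr e F F') : E'.IsSubnormalIn F' p :=
  Corr.isSubnormalIn_aux h hp hS hE hF

theorem Corr.isSimple [Finite S] {p : ℕ} [Fact p.Prime] (hS : IsPGroup p S) {e : S ≃* S'}
    {F : FusionSystem S} {F' : FusionSystem S'} (h : Corr e F F') (hF : F.IsSimple p) :
    F'.IsSimple p := by
  obtain ⟨hsat, hne, hnorm⟩ := hF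
  have : Finite S' := Finite.of_equiv _ e.toEquiv
  have hS' : IsPGroup p S' := hS.of_equiv e
  refine ⟨h.isSaturated hS hsat, ?_, ?_⟩
  · intro hS'bot
    apply hne
    have h1 : Nat.card S = 1 := by
      rw [Nat.card_congr e.toEquiv, hS'bot]
      exact Subgroup.card_bot
    exact Subgroup.card_eq_one.1 h1
  · intro T' E' hE'
    have hT'S' : T' ≤ S' := le_of_isNormalIn hE'
    obtain ⟨T, E, hEcorr⟩ := exists_corr e.symm hT'S' E'
    have hEF : E.IsNormalIn F p := hEcorr.isNormalIn hS' h.symm hE'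
    have hEE' : Corr e E E' := by
      have := hEcorr.symm
      rwa [MulEquiv.symm_symm] at this
    rcases hnorm _ E hEF with hbot | ⟨htop, hhom⟩
    · left
      rw [hEE'.eq_im, hbot]
      ext y
      rw [mem_im_iff, Subgroup.mem_bot]
      constructor
      · rintro ⟨x, hx, hxb, rfl⟩
        rw [Subgroup.mem_bot] at hxb
        subst hxb
        have : (⟨1, hx⟩ : S) = 1 := rfl
        rw [this, map_one]; rfl
      · rintro rfl
        refine ⟨1, S.one_mem, Subgroup.one_mem _, ?_⟩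
        have : (⟨1, S.one_mem⟩ : S) = 1 := rfl
        rw [this, map_one]; rfl
    · right
      refine ⟨?_, fun P' => ?_⟩
      · rw [hEE'.eq_im, htop, im_self]
      · apply Set.Subset.antisymm
        · exact hE'.1.2.2.1 P'
        · intro φ' hφ'
          obtain ⟨P, φ, hφ, hP, hi⟩ := h.exists_of_mem hφ'
          rw [← hhom P] at hφ
          exact hEE'.mem_of_mem hφ hP hi

theorem Corr.quasisimple [Finite S] {p : ℕ} [Fact p.Prime] (hS : IsPGroup p S) {e : S ≃* S'}
    {T : Subgroup Ω} {C : FusionSystem T} {T' : Subgroup Ω'} {C' : FusionSystem T'}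
    (h : Corr e C C') (hC : C.Quasisimple p) : C'.Quasisimple p := by
  obtain ⟨hsat, hhyp, hfac⟩ := hC
  refine ⟨h.isSaturated hS hsat, ?_, ?_⟩
  · rw [h.hyperfocalSubgroup p, hhyp, ← h.eq_im]
  · intro E'' hE''
    obtain ⟨E₀, b, hE₀, hb⟩ := h.exists_factor_corr E'' hE''
    have h0 : E₀.IsSimple p := hfac E₀ hE₀
    have hT : IsPGroup p T := hS.to_le h.le
    have : Finite T := Finite.of_injective (Subgroup.inclusion h.le) (Subgroup.inclusion_injective h.le)
    have hQ : IsPGroup p (↥T ⧸ (C.center).subgroupOf T) := hT.to_quotient _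
    have hQ' : IsPGroup p ↥(⊤ : Subgroup (↥T ⧸ (C.center).subgroupOf T)) := hQ.to_subgroup _
    exact hb.isSimple hQ' h0

theorem Corr.isComponentIn [Finite S] {p : ℕ} [Fact p.Prime] (hS : IsPGroup p S) {e : S ≃* S'}
    {T Sf : Subgroup Ω} {C : FusionSystem T} {F : FusionSystem Sf}
    {T' Sf' : Subgroup Ω'} {C' : FusionSystem T'} {F' : FusionSystem Sf'}
    (hC : Corr e C C') (hF : Corr e F F') (h : C.IsComponentIn F p) : C'.IsComponentIn F' p :=
  ⟨Corr.isSubnormalIn hS h.1 hC hF, hC.quasisimple hS h.2⟩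

/-- An automorphism `α` of `S` such that `α` and `α⁻¹` are morphisms `F → F` maps `F` to itself. -/
theorem corr_self_of_isMorphism {F : FusionSystem S} (α : S ≃* S)
    (hα : F.IsMorphism F (S.subtype.comp α.toMonoidHom))
    (hα' : F.IsMorphism F (S.subtype.comp α.symm.toMonoidHom)) : Corr α F F := by
  refine ⟨le_rfl, (im_self α).symm, fun P' φ' => ?_⟩
  constructor
  · intro hφ'
    obtain ⟨φ, hφ, hi⟩ := hα'.2 P' φ' hφ'
    have hP'S : P' ≤ S := (F.le_of_mem hφ').1
    refine ⟨im α.symm P', φ, hφ, im_im_symm α hP'S, ?_⟩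
    have := inducedAlong_symm α.symm rfl hi
    rwa [MulEquiv.symm_symm] at this
  · rintro ⟨P, φ, hφ, hP, hi⟩
    obtain ⟨φ'', hφ'', hi''⟩ := hα.2 P φ hφ
    subst hP
    have : φ' = φ'' := inducedAlong_unique α hi hi''
    rw [this]
    exact hφ''

end Cfsg.Agent.Lib.Helper84.FTr
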