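import Mathlib
import Cfsg.Agent.Lib.Helper84.FTr.Derived

set_option autoImplicit false

/-! # Conjugates of subnormal subsystems are subnormal (helper84) -/

namespace Cfsg.Agent.Lib.Helper84.FTr

open Cfsg Cfsg.FusionSystem

variable {Ω : Type*} [Group Ω]

/-- An injective endomorphism of a finite group, as an automorphism. -/
noncomputable def autOfHom {Sf : Subgroup Ω} [Finite Sf] (γ : Sf →* Ω) (hγ : Function.Injective γ)
    (hγS : ∀ x, γ x ∈ Sf) : Sf ≃* Sf :=
  MulEquiv.ofBijective (γ.codRestrict Sf hγS)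
    (Finite.injective_iff_bijective.1 (fun _ _ hab => hγ (congrArg Subtype.val hab)))

theorem autOfHom_apply {Sf : Subgroup Ω} [Finite Sf] (γ : Sf →* Ω) (hγ : Function.Injective γ)
    (hγS : ∀ x, γ x ∈ Sf) (x : Sf) : ((autOfHom γ hγ hγS x : Sf) : Ω) = γ x := rfl

theorem conj_subnormal_aux {T Sf : Subgroup Ω} {C : FusionSystem T} {F : FusionSystem Sf} {p : ℕ}
    (h : C.IsSubnormalIn F p) :
    ∀ (_ : Fact p.Prime) (_ : Finite Sf) (_ : IsPGroup p Sf) (γ : T →* Ω) (_ : γ ∈ F.Hom T)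
      {S₀ S₀' : Subgroup Ω} (e : S₀ ≃* S₀') (hT : T ≤ S₀)
      (_ : ∀ (x : Ω) (hx : x ∈ T), (e ⟨x, hT hx⟩ : Ω) = γ ⟨x, hx⟩)
      {T' : Subgroup Ω} (E' : FusionSystem T'), Corr e C E' → E'.IsSubnormalIn F p := by
  induction h with
  | refl F p =>
    intro hp hfin hS γ hγ S₀ S₀' e hT hag T' E' hE'
    have hγS : ∀ x, γ x ∈ _ := (F.le_of_mem hγ).2
    have hα : Corr (autOfHom γ (F.injective_of_mem hγ) hγS) F F := by
      apply corr_self_of_isIso
      have : (Subgroup.subtype _).comp (autOfHom γ (F.injective_of_mem hγ) hγS).toMonoidHom = γ :=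
        MonoidHom.ext fun x => rfl
      rw [this]
      exact hγ
    have he : Corr e F F := Corr.of_agree e hα hT (fun x hx => hag x hx)
    obtain ⟨hT', hH⟩ := hE'.unique he
    exact isSubnormalIn_of_hom_eq hT' hH (IsSubnormalIn.refl F p)
  | step hCD hDF ih =>
    rename_i U S₁ C₁ D F₁ p₁
    intro hp hfin hS γ hγ S₀ S₀' e hT hag T' E' hE'
    have hUS : U ≤ S₁ := le_of_isNormalIn hDF
    have hTU : T ≤ U := le_of_isSubnormalIn hCD
    have hfinU : Finite U :=
      Finite.of_injective (Subgroup.inclusion hUS) (Subgroup.inclusion_injective hUS)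
    have hU : IsPGroup p₁ U := hS.to_le hUS
    have hfinT : Finite T :=
      Finite.of_injective (Subgroup.inclusion hTU) (Subgroup.inclusion_injective hTU)
    have hinv : D.IsInvariantIn F₁ := hDF.1.2.2
    obtain ⟨α, hα, φ₀, hφ₀, hfr⟩ := hinv.2.2.2 T hTU γ hγ
    have hφ₀U : ∀ x, φ₀ x ∈ U := (D.le_of_mem hφ₀).2
    obtain ⟨T₀, E₀, hE₀⟩ := exists_corr (MonoidHom.ofInjective (D.injective_of_mem hφ₀)) le_rfl C₁
    have hE₀D : E₀.IsSubnormalIn D p₁ :=
      ih hp hfinU hU φ₀ hφ₀ (MonoidHom.ofInjective (D.injective_of_mem hφ₀)) le_rfl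
        (fun x hx => rfl) E₀ hE₀
    have hαD : Corr (α : U ≃* U) D D := corr_of_mem_autGroup hinv α hα
    have hrU : φ₀.range ≤ U := by
      rintro _ ⟨x, rfl⟩
      exact hφ₀U x
    have hT₀U : T₀ ≤ U := hE₀.le'.trans hrU
    obtain ⟨T₁, E₁, hE₁⟩ := exists_corr (α : U ≃* U) hT₀U E₀
    have hE₁D : E₁.IsSubnormalIn D p₁ := Corr.isSubnormalIn hU hE₀D hE₁ hαD
    have hE₁F : E₁.IsSubnormalIn F₁ p₁ := IsSubnormalIn.step hE₁D hDF
    have hE₁' : Corr (imEquiv (α : U ≃* U) hrU) E₀ E₁ :=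
      Corr.of_agree (imEquiv (α : U ≃* U) hrU) hE₁ hE₀.le' (fun x hx => rfl)
    have hcomp := hE₀.trans hE₁'
    have hfin : Corr e C₁ E₁ := by
      refine Corr.of_agree e hcomp hT (fun x hx => ?_)
      rw [hag x hx, hfr ⟨x, hx⟩ (hφ₀U _)]
      rfl
    obtain ⟨hT', hH⟩ := hE'.unique hfin
    exact isSubnormalIn_of_hom_eq hT' hH hE₁F

/-- **Conjugates of components.** -/
theorem isComponentIn_of_isFactorSystem_bot {S : Subgroup Ω} [Finite S] (p : ℕ) [hp : Fact p.Prime]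
    (hS : IsPGroup p S) (F : FusionSystem S) {T : Subgroup Ω} (C : FusionSystem T)
    (hC : C.IsComponentIn F p) (γ : T →* Ω) (hγ : γ ∈ F.Hom T) (E : FusionSystem γ.range)
    (hE : C.IsFactorSystem ⊥ γ E) : E.IsComponentIn F p := by
  have hTS : T ≤ S := le_of_isSubnormalIn hC.1
  have hfinT : Finite T :=
    Finite.of_injective (Subgroup.inclusion hTS) (Subgroup.inclusion_injective hTS)
  have hT : IsPGroup p T := hS.to_le hTS
  have hCE : Corr (MonoidHom.ofInjective (F.injective_of_mem hγ)) C E :=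
    corr_of_isFactorSystem_bot C γ _ E hE
  refine ⟨?_, hCE.quasisimple hT hC.2⟩
  exact conj_subnormal_aux hC.1 hp inferInstance hS γ hγ _ le_rfl (fun x hx => rfl) E hCE

end Cfsg.Agent.Lib.Helper84.FTr
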